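import Cfsg.Agent.H347.Aff.Sp
import Cfsg.Agent.H149.Sp.Leech
import Cfsg.Agent.H347.Aff.Alt
import Cfsg.Agent.H248.Dich
import Cfsg.Agent.H248.RankOneFam
import Cfsg.Agent.H248.DichRGD
import Cfsg.Agent.Nodes.RGDClass
import Cfsg.Agent.H603.SporElim
import Cfsg.Agent.S0243
import Cfsg.Agent.Prune
set_option linter.all false
prune_inst 0x7f00000000000000000000000000000000000000000000000000000000000000000000000000000000000000000000000000000000000000000000000000000000000000000000000000000000000000003fffffffffffffffffffffffffffbeffbdffffffff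
open scoped Cfsg.Agent.FastGrp

-- part: H347/Aff/Spor
section
/-!
# Point stabilizers of `HS` (176 points) and `Co₃` (276 points) (helper347)
-/

set_option autoImplicit false

namespace Cfsg.Agent.H347.Aff.Spor

open MulAction Cfsg Cfsg.Agent.H384.TwoTrans Cfsg.Agent.Schreier.Basic Cfsg.Agent.H149.Sp

universe u v

variable {G : Type u} {Ω : Type v} [Group G] [MulAction G Ω] {T : Subgroup G}

theorem leechV_ne : Spor.leechV ≠ 0 := by
  intro h
  have h1 := congrArg (fun v : leechLattice => (v : GolayPt → ℤ) none) h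
  have h2 : Spor.vecV none = 0 := h1
  simp [Spor.vecV] at h2

theorem hs57 {X : Type*} [Group X] (h : Spor.IsoHS X) {x y : X} (hx : orderOf x = 7) (hy : orderOf y = 5) :
    ¬ Commute x y := by
  intro hc
  obtain ⟨e⟩ := h
  let f : X →* Co0 := (Subgroup.inclusion (inf_le_left.trans inf_le_left : Spor.HS ≤ Co0)).comp e.toMonoidHom
  have hf : Function.Injective f :=
    (Subgroup.inclusion_injective (inf_le_left.trans inf_le_left : Spor.HS ≤ Co0)).comp e.injective
  refine co0_not_comm_fix (a := f y) (b := f x) leechV_ne ((e y).2.1.2) ((e x).2.1.2) ?_ ?_ ?_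
  · rw [orderOf_injective f hf, hy]
  · rw [orderOf_injective f hf, hx]
  · rw [← map_mul, ← hc.eq, map_mul]

theorem co3_not_comm {X : Type*} [Group X] (h : Spor.IsoCo3 X) {p : ℕ} (hp : p = 5 ∨ p = 7) {x y : X}
    (hx : orderOf x = 11) (hy : orderOf y = p) : ¬ Commute x y := by
  intro hc
  obtain ⟨e⟩ := h
  let f : X →* Co0 := (Subgroup.inclusion (inf_le_left : Spor.Co3 ≤ Co0)).comp e.toMonoidHom
  have hf : Function.Injective f :=
    (Subgroup.inclusion_injective (inf_le_left : Spor.Co3 ≤ Co0)).comp e.injective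
  have hp' : P5 p := by rcases hp with rfl | rfl <;> simp [P5]
  refine co0_not_comm (a := f y) (b := f x) hp' (Or.inr (Or.inr (Or.inl rfl)))
    (by rcases hp with rfl | rfl <;> norm_num) (by norm_num) ?_ ?_ ?_
  · rw [orderOf_injective f hf, hy]
  · rw [orderOf_injective f hf, hx]
  · rw [← map_mul, ← hc.eq, map_mul]

theorem mem_of_dvd {p n : ℕ} {l : List ℕ} (hp : p.Prime) (hl : ∀ q ∈ l, q.Prime) (hn : n ∣ l.prod ^ 20) (h : p ∣ n) :
    p ∈ l := by
  have h1 : p ∣ l.prod := hp.dvd_of_dvd_pow (h.trans hn)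
  obtain ⟨q, hq, hpq⟩ := (Nat.Prime.prime hp).dvd_prod_iff.1 h1
  rwa [(Nat.prime_dvd_prime_iff_eq hp (hl q hq)).1 hpq]

/-- the row `HS` -/
theorem hs (A : AS G Ω T) (hSch : Sch ↥T) (a : Ω) (h : Spor.IsoHS ↥T) (hn : Nat.card Ω = 176)
    (ht : Nat.card T = 44352000) : Concl G a := by
  have h1 := A.card_mul a
  rw [hn, ht] at h1
  have h2 : Nat.card (stabilizer T a) = 252000 := by omega
  refine concl_of_prime_sq A hSch a (r := 7) (by norm_num) (fun N hN =>
    Spm.dvd_of_comm A hSch a (r := 7) (p₁ := 2) (p₂ := 3) (by norm_num) (by norm_num) (by norm_num) (by norm_num)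
      (by rw [h2]; norm_num) ?_ hN) (by rw [h2]; norm_num)
  rw [h2]
  intro p hp hpd
  have h3 : p ∈ [2, 3, 5, 7] :=
    mem_of_dvd hp (by simp only [List.forall_mem_cons]; norm_num) (by norm_num) hpd
  simp only [List.mem_cons, List.not_mem_nil, or_false] at h3
  rcases h3 with rfl | rfl | rfl | rfl
  · exact Or.inl rfl
  · exact Or.inr (Or.inl rfl)
  · refine Or.inr (Or.inr (Or.inr ⟨fun x y hx hy => hs57 h hx hy, fun j hj hjd => ?_⟩))
    have hj3 : j < 4 := by
      by_contra hj3
      have h5 : (5 : ℕ) ^ 4 ∣ 252000 := (pow_dvd_pow 5 (by omega)).trans hjd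
      norm_num at h5
    interval_cases j <;> decide
  · exact Or.inr (Or.inr (Or.inl rfl))

/-- the row `Co₃` -/
theorem co3 (A : AS G Ω T) (hSch : Sch ↥T) (a : Ω) (h : Spor.IsoCo3 ↥T) (hn : Nat.card Ω = 276)
    (ht : Nat.card T = 495766656000) : Concl G a := by
  have h1 := A.card_mul a
  rw [hn, ht] at h1
  have h2 : Nat.card (stabilizer T a) = 1796256000 := by omega
  refine concl_of_prime_sq A hSch a (r := 11) (by norm_num) (fun N hN =>
    Spm.dvd_of_comm A hSch a (r := 11) (p₁ := 2) (p₂ := 3) (by norm_num) (by norm_num) (by norm_num) (by norm_num)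
      (by rw [h2]; norm_num) ?_ hN) (by rw [h2]; norm_num)
  rw [h2]
  intro p hp hpd
  have h3 : p ∈ [2, 3, 5, 7, 11] :=
    mem_of_dvd hp (by simp only [List.forall_mem_cons]; norm_num) (by norm_num) hpd
  simp only [List.mem_cons, List.not_mem_nil, or_false] at h3
  rcases h3 with rfl | rfl | rfl | rfl | rfl
  · exact Or.inl rfl
  · exact Or.inr (Or.inl rfl)
  · refine Or.inr (Or.inr (Or.inr ⟨fun x y hx hy => co3_not_comm h (Or.inl rfl) hx hy, fun j hj hjd => ?_⟩))
    have hj3 : j < 4 := by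
      by_contra hj3
      have h5 : (5 : ℕ) ^ 4 ∣ 1796256000 := (pow_dvd_pow 5 (by omega)).trans hjd
      norm_num at h5
    interval_cases j <;> decide
  · refine Or.inr (Or.inr (Or.inr ⟨fun x y hx hy => co3_not_comm h (Or.inr rfl) hx hy, fun j hj hjd => ?_⟩))
    have hj3 : j < 2 := by
      by_contra hj3
      have h5 : (7 : ℕ) ^ 2 ∣ 1796256000 := (pow_dvd_pow 7 (by omega)).trans hjd
      norm_num at h5
    interval_cases j
    decide
  · exact Or.inr (Or.inr (Or.inl rfl))

end Cfsg.Agent.H347.Aff.Spor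
end

-- part: H347/Aff/Num
section
/-!
# Point stabilizers of almost simple 2-transitive groups: small degrees (helper347)
-/

set_option autoImplicit false

namespace Cfsg.Agent.H347.Aff

open MulAction Cfsg.Agent.H384.TwoTrans Cfsg.Agent.Schreier.Basic

universe u v

variable {G : Type u} {Ω : Type v} [Group G] [MulAction G Ω] {T : Subgroup G}

theorem concl_num (A : AS G Ω T) (hSch : Sch ↥T) (a : Ω) (n t r : ℕ) (hn : Nat.card Ω = n)
    (ht : Nat.card T = t) (hr : r.Prime) (hn1 : n - 1 ≠ 0) (h1 : ∀ d ∈ (n - 1).divisors, 5 ≤ d → r ∣ d)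
    (h2 : ¬ n * r ^ 2 ∣ t) : Concl G a := by
  subst hn ht
  refine concl_of_degree A hSch a hr (fun d hd h5 => h1 d (Nat.mem_divisors.2 ⟨hd, hn1⟩) h5) fun h => h2 ?_
  rw [← A.card_mul a]
  exact Nat.mul_dvd_mul_left _ h

theorem psl2_8 (A : AS G Ω T) (hSch : Sch ↥T) (a : Ω) (hn : Nat.card Ω = 28) (ht : Nat.card T = 504) :
    Concl G a := by
  have := A.finT
  refine concl_of_solvable A hSch a (Cfsg.Agent.LieClassical.Order72.isSolvable_of_card_dvd ?_)
  have h1 := A.card_mul a
  rw [hn, ht] at h1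
  have h2 : Nat.card (stabilizer T a) = 18 := by omega
  rw [h2]
  norm_num

theorem psl2_9 (A : AS G Ω T) (hSch : Sch ↥T) (a : Ω) (hn : Nat.card Ω = 6) (ht : Nat.card T = 360) :
    Concl G a :=
  concl_num A hSch a 6 360 5 hn ht (by norm_num) (by norm_num) (by decide) (by norm_num)

theorem psl2_11 (A : AS G Ω T) (hSch : Sch ↥T) (a : Ω) (hn : Nat.card Ω = 11) (ht : Nat.card T = 660) :
    Concl G a :=
  concl_num A hSch a 11 660 5 hn ht (by norm_num) (by norm_num) (by decide) (by norm_num)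

theorem psl4_2 (A : AS G Ω T) (hSch : Sch ↥T) (a : Ω) (hn : Nat.card Ω = 8) (ht : Nat.card T = 20160) :
    Concl G a :=
  concl_num A hSch a 8 20160 7 hn ht (by norm_num) (by norm_num) (by decide) (by norm_num)

theorem a7 (A : AS G Ω T) (hSch : Sch ↥T) (a : Ω) (hn : Nat.card Ω = 15) (ht : Nat.card T = 2520) :
    Concl G a :=
  concl_num A hSch a 15 2520 7 hn ht (by norm_num) (by norm_num) (by decide) (by norm_num)

theorem m11 (A : AS G Ω T) (hSch : Sch ↥T) (a : Ω) (hn : Nat.card Ω = 11) (ht : Nat.card T = 7920) :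
    Concl G a :=
  concl_num A hSch a 11 7920 5 hn ht (by norm_num) (by norm_num) (by decide) (by norm_num)

theorem m11' (A : AS G Ω T) (hSch : Sch ↥T) (a : Ω) (hn : Nat.card Ω = 12) (ht : Nat.card T = 7920) :
    Concl G a :=
  concl_num A hSch a 12 7920 11 hn ht (by norm_num) (by norm_num) (by decide) (by norm_num)

theorem m12 (A : AS G Ω T) (hSch : Sch ↥T) (a : Ω) (hn : Nat.card Ω = 12) (ht : Nat.card T = 95040) :
    Concl G a :=
  concl_num A hSch a 12 95040 11 hn ht (by norm_num) (by norm_num) (by decide) (by norm_num)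

theorem m22 (A : AS G Ω T) (hSch : Sch ↥T) (a : Ω) (hn : Nat.card Ω = 22) (ht : Nat.card T = 443520) :
    Concl G a :=
  concl_num A hSch a 22 443520 7 hn ht (by norm_num) (by norm_num) (by decide) (by norm_num)

theorem m23 (A : AS G Ω T) (hSch : Sch ↥T) (a : Ω) (hn : Nat.card Ω = 23) (ht : Nat.card T = 10200960) :
    Concl G a :=
  concl_num A hSch a 23 10200960 11 hn ht (by norm_num) (by norm_num) (by decide) (by norm_num)

theorem m24 (A : AS G Ω T) (hSch : Sch ↥T) (a : Ω) (hn : Nat.card Ω = 24) (ht : Nat.card T = 244823040) :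
    Concl G a :=
  concl_num A hSch a 24 244823040 23 hn ht (by norm_num) (by norm_num) (by decide) (by norm_num)

end Cfsg.Agent.H347.Aff
end

-- part: H347/Aff/Local
section
/-!
# Point stabilizers of almost simple 2-transitive groups: degree prime to the characteristic (helper347)

* `concl_of_pCore` : `O_p(T_a) ≠ 1` implies that `G_a` is a local subgroup;
* `concl_of_dich` : `Dich p T` (`T` of Lie type in characteristic `p`) and `p ∤ |Ω|`.
-/

set_option autoImplicit false

namespace Cfsg.Agent.H347.Aff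

open MulAction Cfsg.Agent.H384.TwoTrans Cfsg.Agent.Lib Cfsg.Agent.Schreier.Basic Cfsg.Agent.H248.Ovg

universe u v

variable {G : Type u} {Ω : Type v} [Group G] [MulAction G Ω] {T : Subgroup G}

theorem concl_of_pCore (A : AS G Ω T) (a : Ω) {p : ℕ} (hp : p.Prime)
    (h : Cfsg.pCore p (stabilizer T a) ≠ ⊥) : Concl G a := by
  have := A.finG
  have := A.finT
  have := A.normal
  have : Fact p.Prime := ⟨hp⟩
  let K : Subgroup (stabilizer G a) := T.subgroupOf (stabilizer G a)
  have hK : K.Normal := inferInstance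
  let e : stabilizer T a ≃* K :=
    { toFun := fun t => ⟨⟨((t : T) : G), t.2⟩, (t : T).2⟩
      invFun := fun k => ⟨⟨((k : stabilizer G a) : G), k.2⟩, (k : stabilizer G a).2⟩
      left_inv := fun _ => rfl
      right_inv := fun _ => rfl
      map_mul' := fun _ _ => rfl }
  have h1 : Cfsg.pCore p K ≠ ⊥ := by
    rw [← Cores.map_equiv_pCore e p]
    intro h2
    exact h ((Subgroup.map_eq_bot_iff_of_injective _ e.injective).1 h2)
  have h2 : Cfsg.pCore p (stabilizer G a) ≠ ⊥ := by
    intro h3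
    apply h1
    have h4 := Cores.map_subtype_pCore p hK
    rw [h3, inf_bot_eq] at h4
    exact (Subgroup.map_eq_bot_iff_of_injective _ K.subtype_injective).1 h4
  exact of_pgroup A a hp _ (Cores.pCore_normal p) (Cores.pCore_isPGroup p) h2

theorem concl_of_dich (A : AS G Ω T) (a : Ω) {p : ℕ} (hp : p.Prime) (hD : Dich p T)
    (hn : ¬ p ∣ Nat.card Ω) : Concl G a := by
  have := A.finT
  have : Fact p.Prime := ⟨hp⟩
  refine concl_of_pCore A a hp fun h => ?_
  have h1 := hD.eq_top (stabilizer T a) h (by rwa [A.index_stabilizer])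
  have h2 := A.index_stabilizer a
  rw [h1, Subgroup.index_top] at h2
  have h5 := A.five_le
  omega

end Cfsg.Agent.H347.Aff
end

-- part: H347/Aff/Asm
section
/-!
# Point stabilizers of the 2-transitive groups with non-abelian socle: assembly (helper347)
-/

set_option autoImplicit false

namespace Cfsg.Agent.H347.Aff.Asm

open MulAction Cfsg Cfsg.Agent.H384.TwoTrans Cfsg.Agent.Schreier.Basic Cfsg.Agent.H248.Ovg

universe u v

variable {G : Type u} {Ω : Type v} [Group G] [MulAction G Ω] {T : Subgroup G}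

theorem card_psl {X : Type*} [Group X] {F : Type*} [Field F] [Fintype F] {q d : ℕ} (hF : Fintype.card F = q)
    (hd : 2 ≤ d) (e : Nonempty (X ≃* Matrix.ProjectiveSpecialLinearGroup (Fin d) F)) :
    Nat.gcd d (q - 1) * ((q - 1) * Nat.card X) = ∏ i : Fin d, (q ^ d - q ^ (i : ℕ)) := by
  obtain ⟨e⟩ := e
  rw [Nat.card_congr e.toEquiv]
  exact Cfsg.Agent.S0243.result hF d hd

theorem psl (A : AS G Ω T) (a : Ω) (F : Type) [Field F] [Fintype F] (d : ℕ) (hd : 2 ≤ d)
    (hd2 : d = 2 → 4 ≤ Fintype.card F) (e : Nonempty (T ≃* Matrix.ProjectiveSpecialLinearGroup (Fin d) F))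
    (hn : Nat.card Ω * (Fintype.card F - 1) = Fintype.card F ^ d - 1) : Concl G a := by
  obtain ⟨p, hchar⟩ := CharP.exists F
  obtain ⟨f, hp, hf⟩ := FiniteField.card F p
  have : Fact p.Prime := ⟨hp⟩
  have := A.finT
  refine concl_of_dich A a hp (dich_of_hasRGD (Cfsg.Agent.Nodes.RGDClass.hasRGD_of_PSL
    ⟨F, inferInstance, inferInstance, hchar, d, hd, hd2, e⟩)) fun h => ?_
  have h1 : p ∣ Fintype.card F ^ d - 1 := hn ▸ Dvd.dvd.mul_right h _
  have h2 : p ∣ Fintype.card F ^ d := by
    rw [hf, ← pow_mul]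
    exact dvd_pow_self p (by have := f.pos; positivity)
  have h3 : p ∣ Fintype.card F ^ d - (Fintype.card F ^ d - 1) := Nat.dvd_sub h2 h1
  have h4 : 0 < Fintype.card F ^ d := by positivity
  rw [Nat.sub_sub_self h4] at h3
  exact hp.one_lt.ne' (Nat.dvd_one.1 h3)

theorem not_dvd_pow_add_one {p q k : ℕ} (hp : p.Prime) (hk : k ≠ 0) (h : p ∣ q) : ¬ p ∣ q ^ k + 1 := by
  intro h1
  have h2 : p ∣ q ^ k := dvd_pow h hk
  exact hp.one_lt.ne' (Nat.dvd_one.1 ((Nat.dvd_add_right h2).1 h1))

theorem psu (A : AS G Ω T) (a : Ω) (F : Type) [Field F] [Fintype F] (q : ℕ) (hq : 3 ≤ q)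
    (hF : Fintype.card F = q ^ 2) (e : Nonempty (T ≃* Cfsg.PSU 3 F q)) (hn : Nat.card Ω = q ^ 3 + 1) :
    Concl G a := by
  obtain ⟨p, hchar⟩ := CharP.exists F
  obtain ⟨f, hp, hf⟩ := FiniteField.card F p
  have : Fact p.Prime := ⟨hp⟩
  have := A.finT
  refine concl_of_dich A a hp (dich_of_hasRGD (Cfsg.Agent.Nodes.RGDClass.hasRGD_of_PSU
    ⟨F, inferInstance, inferInstance, hchar, 3, q, hF, le_rfl, by omega, e⟩)) ?_
  rw [hn]
  refine not_dvd_pow_add_one hp (by norm_num) ?_
  have h1 : p ∣ q ^ 2 := by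
    rw [← hF, hf]
    exact dvd_pow_self p f.pos.ne'
  exact hp.dvd_of_dvd_pow h1

theorem sz (A : AS G Ω T) (a : Ω) (F : Type) [Field F] [Fintype F] (m : ℕ) (hm : 1 ≤ m)
    (hF : Fintype.card F = 2 ^ (2 * m + 1)) (e : Nonempty (T ≃* ↥(Cfsg.Lie.Sz F (2 ^ (m + 1)))))
    (hn : Nat.card Ω = Fintype.card F ^ 2 + 1) : Concl G a := by
  have := A.finT
  refine concl_of_dich A a Nat.prime_two (dich_sz ⟨F, inferInstance, inferInstance, m, hm, hF, e⟩) ?_
  rw [hn]
  refine not_dvd_pow_add_one Nat.prime_two (by norm_num) ?_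
  rw [hF]
  exact dvd_pow_self 2 (by omega)

theorem ree (A : AS G Ω T) (a : Ω) (K : Type) [Field K] [Fintype K] (m : ℕ) (hm : 1 ≤ m)
    (hK : Fintype.card K = 3 ^ (2 * m + 1)) (e : Nonempty (T ≃* ↥(Cfsg.Lie.twistedG2 K (3 ^ m))))
    (hn : Nat.card Ω = Fintype.card K ^ 3 + 1) : Concl G a := by
  have := A.finT
  refine concl_of_dich A a Nat.prime_three (dich_ree ⟨K, inferInstance, inferInstance, m, hm, hK, e⟩) ?_
  rw [hn]
  refine not_dvd_pow_add_one Nat.prime_three (by norm_num) ?_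
  rw [hK]
  exact dvd_pow_self 3 (by omega)

theorem card_alt_seven {X : Type*} [Group X] (e : Nonempty (X ≃* ↥(alternatingGroup (Fin 7)))) :
    Nat.card X = 2520 := by
  obtain ⟨e⟩ := e
  have h := nat_card_alternatingGroup (α := Fin 7)
  have h7 : Nat.factorial 7 = 5040 := by decide
  rw [Nat.card_eq_fintype_card (α := Fin 7), Fintype.card_fin, h7] at h
  rw [Nat.card_congr e.toEquiv, h]

/-- **The point stabilizers of the groups of the list.** -/
theorem concl (A : AS G Ω T) (hSch : Sch ↥T) (a : Ω) (K : Known2 ↥T (Nat.card Ω)) : Concl G a := by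
  have hex : ∃ n, n = Nat.card Ω := ⟨_, rfl⟩
  obtain ⟨n, hn⟩ := hex
  rw [← hn] at K
  cases K with
  | alt _ h5 e => exact alt A hSch a (hn ▸ e)
  | psl F d _ hd hd2 e h => exact psl A a F d hd hd2 e (hn ▸ h)
  | sp F m _ hF hm e h => exact Spm.sp A hSch a hF hm e (hn ▸ h)
  | psu F q _ hq hF e h => exact psu A a F q hq hF e (hn ▸ h)
  | sz F m _ hm hF e h => exact sz A a F m hm hF e (hn ▸ h)
  | ree F m _ hm hF e h => exact ree A a F m hm hF e (hn ▸ h)
  | psl2_8 F hF e =>
    refine psl2_8 A hSch a hn.symm ?_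
    have h := card_psl hF le_rfl e
    norm_num [Fin.prod_univ_succ] at h
    omega
  | psl2_9 F hF e =>
    refine psl2_9 A hSch a hn.symm ?_
    have h := card_psl hF le_rfl e
    norm_num [Fin.prod_univ_succ] at h
    omega
  | psl2_11 F hF e =>
    refine psl2_11 A hSch a hn.symm ?_
    have h := card_psl hF le_rfl e
    norm_num [Fin.prod_univ_succ] at h
    omega
  | psl4_2 F hF e =>
    refine psl4_2 A hSch a hn.symm ?_
    have h := card_psl hF (by norm_num) e
    norm_num [Fin.prod_univ_succ] at h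
    omega
  | a7 e => exact a7 A hSch a hn.symm (card_alt_seven e)
  | m11 h => exact m11 A hSch a hn.symm (NotCT.Orders.m11 h)
  | m11' h => exact m11' A hSch a hn.symm (NotCT.Orders.m11 h)
  | m12 h => exact m12 A hSch a hn.symm (NotCT.Orders.m12 h)
  | m22 h => exact m22 A hSch a hn.symm (NotCT.Orders.m22 h)
  | m23 h => exact m23 A hSch a hn.symm (NotCT.Orders.m23 h)
  | m24 h => exact m24 A hSch a hn.symm (NotCT.Orders.m24 h)
  | hs h => exact Spor.hs A hSch a h hn.symm (NotCT.Orders.hs h)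
  | co3 h => exact Spor.co3 A hSch a h hn.symm (NotCT.Orders.co3 h)

end Cfsg.Agent.H347.Aff.Asm
end

private theorem dce_44ee0f269b18 : _root_.True := by
  try have : _root_.True := by simp only [_root_.Cfsg.Agent.H149.Sp.P5.eq_1]
  exact _root_.True.intro
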